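import Groth.Agent.S1856
import Groth.Agent.CycPushLib.Proper
import Groth.Agent.CycC1Lib.Pull
import Groth.Agent.CycC1Lib.Degree
import Groth.Agent.CycSeqLib.Family
import Groth.Agent.CycPBLib.Main
import Groth.Agent.CycPBLib.Chern
import Groth.Agent.CycBivLib.Clopen
import Groth.Agent.CycGysLib.Divisor
import Groth.Agent.FibDimLib.Comps
import Groth.Agent.DiagTorLib.CMProd
import Groth.Agent.DiagTorLib.ExtProd
import Groth.Prelude.Def_IntMult

/-!
# Exterior products of cycles and rational equivalence

For a cartesian square `p, q` over a field the exterior product with a prime cycle `[w]` is the pushforward of the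
flat pullback along the projection from the closed subscheme over the closure of `w`.
-/

set_option autoImplicit false
set_option backward.isDefEq.respectTransparency false
set_option backward.isDefEq.respectTransparency.types false
set_option linter.style.haveILetI false

universe u

open CategoryTheory CategoryTheory.Limits AlgebraicGeometry TopologicalSpace Topology

noncomputable section

namespace CycExtProdLib

variable {K : Type u} [Field K] {X Y P : Scheme.{u}}

/-- The exterior product for an arbitrary cartesian square. -/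
def ext (p : P ⟶ X) (q : P ⟶ Y) (δX : X → ℤ) (δY : Y → ℤ) (δ : P → ℤ) (α : X → ℤ) (β : Y → ℤ) : P → ℤ :=
  fun z => if δ z = δX (p z) + δY (q z) then
    α (p z) * β (q z) * ((Module.length (P.presheaf.stalk z) (↑(P.presheaf.stalk z) ⧸
      ((IsLocalRing.maximalIdeal (X.presheaf.stalk (p z))).map (p.stalkMap z).hom ⊔
        (IsLocalRing.maximalIdeal (Y.presheaf.stalk (q z))).map (q.stalkMap z).hom))).toNat : ℤ)
  else 0

theorem ext_comm (p : P ⟶ X) (q : P ⟶ Y) (δX : X → ℤ) (δY : Y → ℤ) (δ : P → ℤ) (α : X → ℤ) (β : Y → ℤ) :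
    ext p q δX δY δ α β = ext q p δY δX δ β α := by
  funext z
  simp only [ext, add_comm (δX (p z)), mul_comm (α (p z))]
  rw [sup_comm]

theorem dim_closure (g : Y ⟶ Spec (CommRingCat.of K)) [LocallyOfFiniteType g] {δY : Y → ℤ}
    (hY : Cyc.DeltaCompat g δY (fun _ => 0)) (y : Y) :
    ∃ m : ℕ, δY y = m ∧ topologicalKrullDim ↥(closure ({y} : Set Y)) = m := by
  obtain ⟨m, h1, h2⟩ := hY y
  refine ⟨m, by simpa using h2, ?_⟩
  rw [← IntMultRegLib.fibreClosureDim_eq g y, DimIneqLib.fibreClosureDim_eq_trH, DimIneqLib.trH_eq_natCast h1]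
  rfl

theorem subscheme_dim (y : Y) :
    topologicalKrullDim ↥(IntMult.ptIdeal y).subscheme = topologicalKrullDim ↥(closure ({y} : Set Y)) := by
  rw [← DiagTorLib.dim_support_ker (IntMult.ptIdeal y).subschemeι, Scheme.IdealSheafData.ker_subschemeι,
    IntMult.ptIdeal, Scheme.IdealSheafData.coe_support_vanishingIdeal]
  rfl

/-- An irreducible scheme over a field has relative dimension its dimension. -/
theorem hasRelDim_of_irreducible {W : Scheme.{u}} (h : W ⟶ Spec (CommRingCat.of K)) [IrreducibleSpace W] (s : ℕ)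
    (hd : topologicalKrullDim W = s) : Cyc.HasRelDim h s := by
  intro η T hT
  have hsurj : Function.Surjective (h.fiberι η) := by
    rw [← Set.range_eq_univ, h.range_fiberι]
    exact Set.eq_univ_of_forall fun w => @Subsingleton.elim (PrimeSpectrum K) _ _ _
  let e : ↥(h.fiber η) ≃ₜ W := (h.fiberι η).isEmbedding.toHomeomorphOfSurjective hsurj
  haveI : IrreducibleSpace ↥(h.fiber η) := by
    haveI : Nonempty ↥(h.fiber η) := ⟨e.symm (Classical.arbitrary ↥W)⟩
    exact { isPreirreducible_univ := by
              rw [← e.symm.surjective.range_eq, ← Set.image_univ]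
              exact (PreirreducibleSpace.isPreirreducible_univ (X := ↥W)).image _ e.symm.continuous.continuousOn
            toNonempty := inferInstance }
  rw [irreducibleComponents_eq_singleton, Set.mem_singleton_iff] at hT
  subst hT
  rw [← hd, IsHomeomorph.topologicalKrullDim_eq _ (Homeomorph.Set.univ ↥(h.fiber η)).isHomeomorph]
  exact IsHomeomorph.topologicalKrullDim_eq _ e.isHomeomorph

variable (f : X ⟶ Spec (CommRingCat.of K)) (g : Y ⟶ Spec (CommRingCat.of K)) (p : P ⟶ X) (q : P ⟶ Y)
  (sq : IsPullback p q f g) [LocallyOfFiniteType f] [LocallyOfFiniteType g]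
  (δX : X → ℤ) (δY : Y → ℤ) (δ : P → ℤ) (hX : Cyc.DeltaCompat f δX (fun _ => 0))
  (hY : Cyc.DeltaCompat g δY (fun _ => 0)) (hP : Cyc.DeltaCompat (p ≫ f) δ (fun _ => 0))

include sq in
theorem lft_fst : LocallyOfFiniteType p :=
  MorphismProperty.of_isPullback sq.flip ‹LocallyOfFiniteType g›

include sq in
theorem lft_comp : LocallyOfFiniteType (p ≫ f) := by
  haveI := lft_fst f g p q sq
  infer_instance

variable (w : Y)

/-- The closed subscheme over the closure of `w`. -/
abbrev sub : Scheme.{u} := pullback q (IntMult.ptIdeal w).subschemeι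

/-- Its inclusion. -/
abbrev inc : sub q w ⟶ P := pullback.fst q (IntMult.ptIdeal w).subschemeι

/-- Its projection. -/
abbrev proj : sub q w ⟶ X := inc q w ≫ p

include sq hX hY hP in
theorem proj_spec : ∃ s : ℕ, δY w = s ∧ LocallyOfFiniteType (proj p q w) ∧ Flat (proj p q w) ∧
    Cyc.HasRelDim (proj p q w) s ∧ Cyc.DeltaCompat (proj p q w) (fun u => δ (inc q w u)) δX ∧
      Cyc.IsSetup (sub q w) (fun u => δ (inc q w u)) := by
  obtain ⟨s, hs1, hs2⟩ := dim_closure g hY w
  let ι := (IntMult.ptIdeal w).subschemeι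
  haveI : IsIntegral (IntMult.ptIdeal w).subscheme := NagataFG.isIntegral_closure w
  have hsq : IsPullback (pullback.snd q ι) (proj p q w) (ι ≫ g) f :=
    ((IsPullback.of_hasPullback q ι).paste_horiz sq).flip
  haveI : LocallyOfFiniteType (proj p q w) := MorphismProperty.of_isPullback hsq (inferInstance : LocallyOfFiniteType (ι ≫ g))
  haveI : Flat (proj p q w) := MorphismProperty.of_isPullback hsq (inferInstance : Flat (ι ≫ g))
  refine ⟨s, hs1, inferInstance, inferInstance,
    FibDimLib.hasRelDim_baseChange hsq (hasRelDim_of_irreducible (ι ≫ g) s ((subscheme_dim w).trans hs2)),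
    CycBivLib.deltaCompat_cancel (proj p q w) f (Category.assoc _ _ _) hX
      (CycGysLib.deltaCompat_comp_closedImmersion (p ≫ f) (inc q w) hP), ?_⟩
  haveI := lft_comp f g p q sq
  exact CycBivLib.isSetup_of_lft (inc q w) (CycBivLib.isSetup_of_lft (p ≫ f) CycC1Lib.isSetup_field hP)
    (CycBivLib.deltaCompat_restrict (inc q w))

theorem mem_range_inc (z : P) : z ∈ Set.range (inc q w) ↔ w ⤳ q z := by
  rw [Scheme.Pullback.range_fst, Set.mem_preimage, Scheme.IdealSheafData.range_subschemeι]
  exact DiagTorLib.mem_support_ptIdeal _ _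

include sq hX hY hP in
/-- A point has at most the sum of the dimensions of its projections. -/
theorem delta_le (z : P) : δ z ≤ δX (p z) + δY (q z) := by
  obtain ⟨s, hs, _, _, hrel, hc, -⟩ := proj_spec f g p q sq δX δY δ hX hY hP (q z)
  obtain ⟨u, hu⟩ := (mem_range_inc q (q z) z).2 specializes_rfl
  have := CycLimLib.delta_le (proj p q (q z)) hc hrel u
  rw [Scheme.Hom.comp_apply, hu] at this
  omega

include sq hX hY hP in
/-- The exterior product with a prime cycle. -/
theorem ext_single (s : ℕ) (hs : δY w = s) (α : X → ℤ) (u : sub q w) :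
    ext p q δX δY δ α (Set.indicator {w} 1) (inc q w u) =
      Cyc.pullFun (proj p q w) (fun u => δ (inc q w u)) δX s α u := by
  classical
  let z := inc q w u
  have hYs : Cyc.IsSetup Y δY := CycBivLib.isSetup_of_lft g CycC1Lib.isSetup_field hY
  have hwy : w ⤳ q z := (mem_range_inc q w z).1 ⟨u, rfl⟩
  by_cases hy : q z = w
  · have e1 : Set.indicator ({w} : Set Y) (1 : Y → ℤ) (q z) = 1 := by
      rw [Set.indicator_of_mem (show q z ∈ ({w} : Set Y) from hy), Pi.one_apply]
    have hlen : Module.length (P.presheaf.stalk z) (↑(P.presheaf.stalk z) ⧸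
        ((IsLocalRing.maximalIdeal (X.presheaf.stalk (p z))).map (p.stalkMap z).hom ⊔
          (IsLocalRing.maximalIdeal (Y.presheaf.stalk (q z))).map (q.stalkMap z).hom)) =
        Module.length ((sub q w).presheaf.stalk u) (↑((sub q w).presheaf.stalk u) ⧸
          (IsLocalRing.maximalIdeal (X.presheaf.stalk (p z))).map ((proj p q w).stalkMap u).hom) := by
      have hker : RingHom.ker ((inc q w).stalkMap u).hom =
          (IsLocalRing.maximalIdeal (Y.presheaf.stalk (q z))).map (q.stalkMap z).hom := by
        have hm : ∀ y, y = w → IntMult.stalkIdeal (IntMult.ptIdeal w) y =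
            IsLocalRing.maximalIdeal (Y.presheaf.stalk y) := by
          rintro y rfl
          exact DiagTorLib.stalkIdeal_ptIdeal_self _
        rw [← DiagTorLib.stalkIdeal_ker, Scheme.IdealSheafData.ker_fst_of_isClosedImmersion,
          Scheme.IdealSheafData.ker_subschemeι, DivDescLib.stalkIdeal_comap, hm _ hy]
      rw [← hker]
      refine DiagTorLib.length_quot_of_surjective _ ((inc q w).stalkMap_surjective u) _ _ ?_
      rw [Ideal.map_map, ← CommRingCat.hom_comp, ← Scheme.Hom.stalkMap_comp]
    simp only [ext, Cyc.pullFun]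
    rw [e1, mul_one, hlen, show δY (q z) = (s : ℤ) by rw [hy, hs]]
    rfl
  · have e0 : Set.indicator ({w} : Set Y) (1 : Y → ℤ) (q z) = 0 := Set.indicator_of_notMem (show q z ∉ ({w} : Set Y) from hy) _
    have h1 : δY (q z) < δY w := (hYs.2.2 _ _ hwy (Ne.symm hy)).1
    have h2 := delta_le f g p q sq δX δY δ hX hY hP z
    simp only [ext, Cyc.pullFun]
    rw [e0, if_neg (show ¬ δ z = δX (proj p q w u) + (s : ℤ) from fun e => by
      rw [show proj p q w u = p z from Scheme.Hom.comp_apply _ _ _] at e
      omega)]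
    split_ifs <;> simp

include sq hX hY hP in
/-- The exterior product of a cycle rationally equivalent to zero with a cycle is rationally equivalent to zero. -/
theorem ratEquivZero_ext [CompactSpace Y] (r s : ℤ) (α : AlgebraicCycle X ℤ) (β : AlgebraicCycle Y ℤ)
    (hα : α ∈ Cyc.Zk X δX r) (hβ : β ∈ Cyc.Zk Y δY s) (h0 : Cyc.RatEquivZero δX r α) (γ : AlgebraicCycle P ℤ)
    (hγ : ⇑γ = ext p q δX δY δ ⇑α ⇑β) : Cyc.RatEquivZero δ (r + s) γ := by
  classical
  haveI := lft_comp f g p q sq
  have hPs : Cyc.IsSetup P δ := CycBivLib.isSetup_of_lft (p ≫ f) CycC1Lib.isSetup_field hP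
  have hXs : Cyc.IsSetup X δX := CycBivLib.isSetup_of_lft f CycC1Lib.isSetup_field hX
  let S := (CycLimLib.support_finite β).toFinset
  have key : ∀ w ∈ S, ∃ c : AlgebraicCycle P ℤ, Cyc.RatEquivZero δ (r + s) c ∧
      ⇑c = ext p q δX δY δ ⇑α (Set.indicator {w} 1) := by
    intro w hw
    obtain ⟨t, ht, _, _, hrel, hc, hset⟩ := proj_spec f g p q sq δX δY δ hX hY hP w
    have hts : (t : ℤ) = s := by
      rw [← ht]
      exact not_not.1 fun h => ((CycLimLib.support_finite β).mem_toFinset.1 hw) (hβ w h)
    haveI := hset.1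
    let a := CycC1Lib.pullCyc (proj p q w) hset (fun u hu => CycLimLib.delta_eq_of_gen (proj p q w) hc hrel hu) α
    have ha : ⇑a = Cyc.pullFun (proj p q w) (fun u => δ (inc q w u)) δX t ⇑α := rfl
    have hz : ⇑(0 : AlgebraicCycle (sub q w) ℤ) =
        Cyc.pullFun (proj p q w) (fun u => δ (inc q w u)) δX t ⇑(0 : AlgebraicCycle X ℤ) := by
      funext u
      simp [Cyc.pullFun]
    have h1 : Cyc.RatEquiv (fun u => δ (inc q w u)) (r + t) a 0 :=
      Groth.Agent.S1856.result (sub q w) X (fun u => δ (inc q w u)) δX hset hXs (proj p q w) t hrel hc r α 0 hα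
        (fun _ _ => rfl) (show Cyc.RatEquiv δX r α 0 by rw [Cyc.RatEquiv, sub_zero]; exact h0) a 0 ha hz
    have h2 := CycPushLib.ratEquiv_map hset hPs (inc q w) (CycBivLib.deltaCompat_restrict (inc q w)) h1
    refine ⟨AlgebraicCycle.map (inc q w) (fun u => δ (inc q w u)) δ a, ?_, funext fun z => ?_⟩
    · have hzero : AlgebraicCycle.map (inc q w) (fun u => δ (inc q w u)) δ (0 : AlgebraicCycle (sub q w) ℤ) = 0 :=
        DFunLike.ext _ _ fun z => CycBivLib.map_apply_eq_zero _ _ _ _ z fun _ _ => rfl
      rw [Cyc.RatEquiv, hzero, sub_zero] at h2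
      rwa [hts] at h2
    · by_cases hz : z ∈ Set.range (inc q w)
      · obtain ⟨u, rfl⟩ := hz
        rw [CycSeqLib.map_closed_apply, ext_single f g p q sq δX δY δ hX hY hP w t ht ⇑α u, ha]
      · rw [CycSeqLib.map_closed_apply_zero _ _ hz]
        have : q z ≠ w := fun e => hz ((mem_range_inc q w z).2 (specializes_of_eq e.symm))
        simp [ext, Set.indicator_of_notMem (show q z ∉ ({w} : Set Y) from this)]
  choose c hc hcv using key
  let c' : Y → AlgebraicCycle P ℤ := fun w => if h : w ∈ S then c w h else 0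
  have : γ = ∑ w ∈ S, β w • c' w := by
    refine DFunLike.ext _ _ fun z => ?_
    rw [CycPBLib.Bun.cyc_sum_apply, hγ]
    rw [Finset.sum_congr rfl fun w (hw : w ∈ S) => show (β w • c' w) z =
        β w * ext p q δX δY δ ⇑α (Set.indicator {w} 1) z by
      rw [CycPBLib.smul_apply, show c' w = c w hw from dif_pos hw, hcv w hw]]
    simp only [ext]
    split_ifs with h
    · rw [Finset.sum_eq_single (q z)]
      · rw [Set.indicator_of_mem (Set.mem_singleton _), Pi.one_apply]
        ring
      · intro w _ hne
        rw [Set.indicator_of_notMem (show q z ∉ ({w} : Set Y) from fun e => hne e.symm)]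
        simp
      · intro hz
        rw [show β (q z) = 0 from not_not.1 fun h' => hz ((CycLimLib.support_finite β).mem_toFinset.2 h')]
        simp
    · simp
  rw [this]
  refine CycPBLib.Bun.ratEquivZero_finset_sum hPs S _ fun w hw => CycPBLib.ratEquivZero_smul hPs _ ?_
  rw [show c' w = c w hw from dif_pos hw]
  exact hc w hw

end CycExtProdLib
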